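import Mathlib
import Cfsg.Prelude.Def_GeometricClasses
import Cfsg.Agent.Lib.Helper27.ASC.Defs

/-!
# Project ASCO : maximal subgroups of `Ω_r(q)`, `r` an odd prime, `q` odd (S5814, S5859)

Vocabulary shared by all pieces.  The structural analysis is done over the index type `Fin r`
for an arbitrary non-degenerate quadratic form `Q : QuadraticForm F (Fin r → F)` whose Gram
entries lie in the prime field; the two statements are obtained by reindexing.
-/

set_option autoImplicit false

namespace Cfsg.Agent.Lib.helper23.ASCO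

open Cfsg Cfsg.Geo Cfsg.Agent.Lib.Helper27.ASC
open scoped MatrixGroups Matrix

variable {ι : Type} [Fintype ι] [DecidableEq ι] {F : Type*} [Field F]

/-- The Gram entries of the polar form of `Q` in the standard basis lie in every subfield of `F`
(that is, in the prime field). -/
def GramPrime (Q : (ι → F) → F) : Prop :=
  ∀ (F₁ : Subfield F) (i j : ι), QuadraticMap.polar Q (Pi.single i 1) (Pi.single j 1) ∈ F₁

/-- class 1, totally singular subspaces -/
def ClassTS (Q : (ι → F) → F) (H : Subgroup (GL ι F)) : Prop :=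
  ∃ W : Submodule F (ι → F), W ≠ ⊥ ∧ IsTotallySingularQuad Q W ∧
    H = subspaceStabilizer W ⊓ omegaGL Q

/-- class 1, non-degenerate subspaces of even dimension -/
def ClassND [Fintype F] (Q : (ι → F) → F) (H : Subgroup (GL ι F)) : Prop :=
  ∃ W : Submodule F (ι → F), W ≠ ⊥ ∧ Even (Module.finrank F W) ∧
    IsNondegenerateOn (QuadraticMap.polar Q) W ∧
    ¬ (Fintype.card F = 3 ∧ Module.finrank F W = 2 ∧ IsPlusTypeOn Q W) ∧
    H = subspaceStabilizer W ⊓ omegaGL Q

/-- class 2, orthogonal frames of isometric lines -/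
def ClassFrame (t : ℕ) (Q : (ι → F) → F) (H : Subgroup (GL ι F)) : Prop :=
  ∃ D : Fin t → Submodule F (ι → F), IsOrthogonalMDecomposition Q 1 D ∧
    H = decompositionStabilizer D ⊓ omegaGL Q

/-- class 5, subfield groups -/
def ClassSub [Fintype F] (Q : (ι → F) → F) (H : Subgroup (GL ι F)) : Prop :=
  ∃ (F₀ : Subfield F) (ℓ : ℕ) (P : GL ι F), ℓ.Prime ∧ Fintype.card F = Nat.card F₀ ^ ℓ ∧
    IsQuadFormRationalStructure Q F₀ P ∧ H = subfieldSubgroup F₀ P ⊓ omegaGL Q

/-- The generic conclusion: the five alternatives of S5814 / S5859 for a form `Q` on `F^ι`. -/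
def ConclO [Fintype F] (t : ℕ) (Q : (ι → F) → F) (H : Subgroup (GL ι F)) : Prop :=
  ClassTS Q H ∨ ClassND Q H ∨ ((Fintype.card F).Prime ∧ ClassFrame t Q H) ∨ ClassSub Q H ∨
    InOrthogonalResidualClass H

/-- `Ω(Q)` inside `GL` is the commutator subgroup of the isometry group. -/
theorem omegaGL_eq_commutator (Q : (ι → F) → F) :
    omegaGL Q = ⁅isometryGroup F Q, isometryGroup F Q⁆ := by
  unfold omegaGL Omega
  rw [commutator_def, Subgroup.map_commutator, ← MonoidHom.range_eq_map, Subgroup.range_subtype]

/-- `Ω(Q)` consists of isometries. -/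
theorem omega_le_iso (Q : (ι → F) → F) : omegaGL Q ≤ isometryGroup F Q := by
  rw [omegaGL_eq_commutator]
  exact Subgroup.commutator_le_self _

/-- `Ω(Q)` consists of matrices of determinant one. -/
theorem omega_le_sl (Q : (ι → F) → F) : omegaGL Q ≤ specialLinear ι F := by
  rw [omegaGL_eq_commutator, Subgroup.commutator_le]
  intro g _ h _
  unfold specialLinear
  rw [MonoidHom.mem_ker, map_commutatorElement]
  exact commutatorElement_eq_one_iff_commute.mpr (Commute.all _ _)

end Cfsg.Agent.Lib.helper23.ASCO
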